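import Cfsg.Agent.Lib.LinearSmall.FiveThree.World

/-!
# Counting pairs of involutions with product in the class of `x`
-/

namespace CfsgLib.LinearSmall.FiveThree

open Cfsg CfsgLib.Blocks CfsgLib.Blocks.DefectOne CfsgLib.CharTheory CfsgLib.CharTheory.SmallDegree
open CfsgLib.SmallSylow CfsgLib.FeitSmall CfsgLib.LinearSmall.Nineteen Finset
open scoped ComplexConjugate

set_option linter.unusedVariables false
set_option linter.style.haveILetI false
set_option linter.unusedSectionVars false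

attribute [local instance] fact_five

universe u

variable {G : Type u} [Group G] [Fintype G] {P : Sylow 5 G} {x : G} {ζ : IrrCharacter G} {a : ZMod 5}
  {D : Data P x 2 2} {F : ZMod 5 → IrrCharacter G} {n : ℕ} {c : ZMod 5} {X : IrrCharacter G}

theorem Conf.center_dvd (hc : Conf D ζ a) (hG : commutator G = ⊤) :
    Nat.card (Subgroup.center G) ∣ 3 := by
  letI : Fintype (Subgroup.center G) := Fintype.ofFinite _
  exact hc.deg ▸ card_center_dvd hG ζ hc.faith

theorem Conf.center_sq (hc : Conf D ζ a) (hG : commutator G = ⊤) {z : G} (hz : z ∈ Subgroup.center G)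
    (h2 : z * z = 1) : z = 1 := by
  have h3 : z ^ 3 = 1 := by
    obtain ⟨k, hk⟩ := hc.center_dvd hG
    have h1 := congrArg Subtype.val (pow_card_eq_one' (x := (⟨z, hz⟩ : Subgroup.center G)))
    simp only [SubmonoidClass.coe_pow, Subgroup.coe_one] at h1
    rw [hk, pow_mul, h1, one_pow]
  rwa [pow_succ, pow_two, h2, one_mul] at h3

theorem Conf.exists_invol (hc : Conf D ζ a) (hG : commutator G = ⊤) :
    ∃ h : G, h * h = 1 ∧ h * x * h⁻¹ = x⁻¹ ∧ h ∉ Subgroup.center G ∧ ¬ 5 ∣ orderOf h := by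
  classical
  have hd := hc.center_dvd hG
  obtain ⟨h, a₀, hh⟩ := exists_gen D hc.compl
    ((show Nat.Coprime 2 5 by norm_num).mul_right ((show Nat.Coprime 2 3 by norm_num).coprime_dvd_right hd))
  have ha : a₀ = -1 := hh.root.eq_neg_one_of_two_right
  subst ha
  have hinv : h * x * h⁻¹ = x⁻¹ := by
    rw [hh.act]
    refine eq_inv_of_mul_eq_one_left ?_
    conv_lhs => arg 2; rw [← xp_one (p := 5) (x := x)]
    rw [← xp_add D.pow, neg_add_cancel, xp_zero]
  refine ⟨h, by rw [← pow_two, hh.pow], hinv, fun hz => ?_, fun hd5 => ?_⟩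
  · have h1 : x = x⁻¹ := by rw [← hinv, ← Subgroup.mem_center_iff.1 hz x, mul_inv_cancel_right]
    have h2 : x ^ 2 = 1 := by
      rw [pow_two]; nth_rw 2 [h1]; exact mul_inv_cancel x
    have h3 := orderOf_dvd_of_pow_eq_one h2
    rw [D.order] at h3
    norm_num at h3
  · have := hd5.trans (orderOf_dvd_of_pow_eq_one hh.pow)
    norm_num at this

theorem conj_shift {h : G} (hinv : h * x * h⁻¹ = x⁻¹) (k : ℕ) : h * x ^ k * h⁻¹ = (x ^ k)⁻¹ := by
  rw [← conj_pow, hinv, inv_pow]

theorem shift_isConj (D : Data P x 2 2) {h : G} (h2 : h * h = 1) (hinv : h * x * h⁻¹ = x⁻¹) (k : ℕ) :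
    IsConj h (h * x ^ k) := by
  rw [isConj_iff]
  -- `x ^ k` is the square of `x ^ (3 * k)`
  refine ⟨(x ^ (3 * k))⁻¹, ?_⟩
  have h1 : x ^ k = x ^ (3 * k) * x ^ (3 * k) := by
    rw [← pow_add, show 3 * k + 3 * k = 5 * k + k by ring, pow_add, pow_mul, D.pow, one_pow, one_mul]
  rw [inv_inv, h1, ← conj_shift hinv]
  group

theorem pair_zero (hc : Conf D ζ a) (hG : commutator G = ⊤) {h : G} (h2 : h * h = 1)
    {z : Subgroup.center G} (hz : z ≠ 1) : pairCount h h (x * z) = 0 := by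
  rw [pairCount, Nat.card_eq_zero]
  refine Or.inl ⟨fun ⟨b, hb, hb'⟩ => hz ?_⟩
  have hsq : ∀ {y : G}, IsConj h y → y * y = 1 := fun {y} hy => by
    obtain ⟨k, rfl⟩ := isConj_iff.1 hy
    rw [show k * h * k⁻¹ * (k * h * k⁻¹) = k * (h * h) * k⁻¹ by group, h2, mul_one, mul_inv_cancel]
  have hbb := hsq hb
  have hbi : b⁻¹ = b := inv_eq_of_mul_eq_one_right hbb
  set y := x * (z : G) with hy
  have h1 := hsq hb'
  rw [hbi] at h1
  have hinv : b * y * b⁻¹ = y⁻¹ := by
    rw [hbi]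
    exact eq_inv_of_mul_eq_one_left (by rw [mul_assoc]; exact h1)
  obtain ⟨j, hj⟩ := hc.center_dvd hG
  have hz3 : (z : G) ^ 3 = 1 := by
    have h := congrArg Subtype.val (pow_card_eq_one' (x := z))
    simp only [SubmonoidClass.coe_pow, Subgroup.coe_one] at h
    rw [hj, pow_mul, h, one_pow]
  have hy5 : y ^ 5 = (z : G) ^ 5 := by
    rw [hy, (show Commute x (z : G) from Subgroup.mem_center_iff.1 z.2 x).mul_pow, D.pow, one_mul]
  have h5 := congrArg (· ^ 5) hinv
  simp only [conj_pow, inv_pow, hy5] at h5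
  rw [Subgroup.mem_center_iff.1 (pow_mem z.2 5) b, mul_inv_cancel_right, eq_inv_iff_mul_eq_one, ← pow_add,
    show 5 + 5 = 3 * 3 + 1 by norm_num, pow_succ, pow_mul, hz3, one_pow, one_mul] at h5
  exact Subtype.ext h5

theorem pair_five (hc : Conf D ζ a) (hG : commutator G = ⊤) {h : G} (h2 : h * h = 1)
    (hinv : h * x * h⁻¹ = x⁻¹) : pairCount h h x = 5 := by
  classical
  have hmove : ∀ k : ℕ, (h * x ^ k)⁻¹ = h * x ^ k := fun k => inv_eq_of_mul_eq_one_right (by
    rw [show h * x ^ k * (h * x ^ k) = h * x ^ k * h⁻¹ * (h * h) * x ^ k by group, h2, mul_one,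
      conj_shift hinv, inv_mul_cancel])
  have hto : ∀ k : ℕ, (h * x ^ k)⁻¹ * x = h * x ^ (k + 1) := fun k => by
    rw [hmove, pow_succ, mul_assoc]
  let f : ZMod 5 → {b : G // IsConj h b ∧ IsConj h (b⁻¹ * x)} := fun k =>
    ⟨h * xp x k, shift_isConj D h2 hinv _, by rw [xp, hto]; exact shift_isConj D h2 hinv _⟩
  have hf : Function.Bijective f := by
    refine ⟨fun k l hkl => D.xp_inj (mul_left_cancel (congrArg Subtype.val hkl)), fun ⟨b, hb, hb'⟩ => ?_⟩
    have hsq : ∀ {y : G}, IsConj h y → y * y = 1 := fun {y} hy => by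
      obtain ⟨k, rfl⟩ := isConj_iff.1 hy
      rw [show k * h * k⁻¹ * (k * h * k⁻¹) = k * (h * h) * k⁻¹ by group, h2, mul_one, mul_inv_cancel]
    have hbb := hsq hb
    have hbi : b⁻¹ = b := inv_eq_of_mul_eq_one_right hbb
    have h1 := hsq hb'
    rw [hbi] at h1
    have hbx : b * x * b⁻¹ = x⁻¹ := by
      rw [hbi]; exact eq_inv_of_mul_eq_one_left (by rw [mul_assoc]; exact h1)
    have hhi : h⁻¹ = h := inv_eq_of_mul_eq_one_right h2
    have hfree : h * b * x * (h * b)⁻¹ = x := by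
      rw [show h * b * x * (h * b)⁻¹ = h * (b * x * b⁻¹) * h⁻¹ by group, hbx, ← conj_inv, hinv, inv_inv]
    obtain ⟨q, hq, z, hz, hqz⟩ := hc.compl.prod _ (D.setup.free D.mem D.ne hfree)
    obtain ⟨k, rfl⟩ := D.exists_xp hq
    have hb2 : b = h * xp x k * z := by
      rw [mul_assoc, ← hqz, ← mul_assoc, h2, one_mul]
    have hsc : h * xp x k * (h * xp x k) = 1 := mul_eq_one_iff_inv_eq.2 (hmove _)
    have hz1 : z = 1 := hc.center_sq hG hz (by
      rw [hb2, (show Commute z (h * xp x k) from (Subgroup.mem_center_iff.1 hz _).symm).mul_mul_mul_comm,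
        hsc, one_mul] at hbb
      exact hbb)
    exact ⟨k, Subtype.ext (show h * xp x k = b from (hb2.trans (by rw [hz1, mul_one])).symm)⟩
  rw [pairCount, ← Nat.card_congr (Equiv.ofBijective f hf), Nat.card_zmod]

theorem Conf.sq_invol (hc : Conf D ζ a) {h : G} (h2 : h * h = 1) (hnc : h ∉ Subgroup.center G) :
    sq ζ h = 1 := by
  classical
  have h1 : orderOf h = 2 := orderOf_eq_prime (by rw [pow_two]; exact h2) fun e => hnc (e ▸ one_mem _)
  have hev : 2 ∣ Nat.card G := h1 ▸ orderOf_dvd_natCard h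
  obtain ⟨z, hz⟩ := rational_int_of_invariant (isCharacter_of_irr ζ.2) h fun m hm => by
    have hodd : m % 2 = 1 := by
      by_contra hne
      have := Nat.eq_one_of_dvd_coprimes hm (Nat.dvd_of_mod_eq_zero (by omega : m % 2 = 0)) hev
      omega
    rw [pow_eq_pow_mod m (by rw [pow_two]; exact h2 : h ^ 2 = 1), hodd, pow_one]
  have hv : sq ζ h = ((z * z : ℤ) : ℂ) := by rw [sq, hz, map_intCast, Int.cast_mul]
  haveI : Fact (Nat.Prime 2) := ⟨Nat.prime_two⟩
  have hm := value_modEq (isCharacter_of_irr ζ.2) (q := 2) ⟨1, by rw [pow_one, pow_two]; exact h2⟩ hz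
    (b := 3) (by rw [hc.one_eq]; norm_num)
  rw [Int.ModEq] at hm
  have hcase := sq_value_cases (isCharacter_of_irr ζ.2) hc.one_eq (q := 2)
    ⟨1, by rw [pow_one, pow_two]; exact h2⟩ (fun m hm' => by
      have hodd : m % 2 = 1 := by
        by_contra hne
        have := Nat.eq_one_of_dvd_coprimes hm' (Nat.dvd_of_mod_eq_zero (by omega : m % 2 = 0)) hev
        omega
      rw [pow_eq_pow_mod m (by rw [pow_two]; exact h2 : h ^ 2 = 1), hodd, pow_one]) hv
  rcases hcase with h5 | h9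
  swap
  · exact absurd (hc.sq_kernel (by rw [hv, h9]; norm_num)) hnc
  have hz1 : -2 ≤ z := by nlinarith
  have hz2 : z ≤ 2 := by nlinarith
  interval_cases z <;> first | (rw [hv]; norm_num; done) | (norm_num at hm)

/-- The class sum identity. -/
theorem count_identity (hc : Conf D ζ a) (hG : commutator G = ⊤) (hw : World D ζ F 2 c X)
    (hψ : ∀ g, sq ζ g = 1 + (F c : G → ℂ) g) {h : G} (h2 : h * h = 1) (hinv : h * x * h⁻¹ = x⁻¹)
    (hnc : h ∉ Subgroup.center G) (hreg : ¬ 5 ∣ orderOf h) :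
    8 * Nat.card (Subgroup.center G) * Nat.card G =
      45 * Nat.card (Subgroup.centralizer ({h} : Set G)) ^ 2 := by
  classical
  set C := Nat.card (Subgroup.centralizer ({h} : Set G))
  set K := (Subgroup.centralizer ({h} : Set G)).index
  have hF0 : (F c : G → ℂ) h = 0 := by
    have h1 := hψ h
    rw [hc.sq_invol h2 hnc] at h1
    exact (left_eq_add.1 h1)
  have hXh : (X : G → ℂ) h = 1 := by rw [hw.rel h hreg, hF0, add_zero]
  have hX1 : (X : G → ℂ) 1 = 9 := by
    rw [hw.rel 1 (by rw [orderOf_one]; norm_num), fam_degree hw.fam hw.ne]; norm_num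
  have hK0 : (K : ℂ) ≠ 0 := Nat.cast_ne_zero.2 Subgroup.index_ne_zero_of_finite
  have key : ∀ y : G, (K : ℂ) * ∑ χ : IrrCharacter G, (χ : G → ℂ) h ^ 2 / (χ : G → ℂ) 1 * conj ((χ : G → ℂ) y) =
      (pairCount h h y : ℂ) * C := fun y => by
    rw [pairCount_mul, Finset.mul_sum]
    refine Finset.sum_congr rfl fun χ _ => ?_
    rw [clv, centralChar]
    ring
  have hsum := world_sum (1 : Subgroup.center G →* ℂ) x (fun χ => (χ : G → ℂ) h ^ 2 / (χ : G → ℂ) 1)
    ((5 : ℂ) * C / K) (by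
      rw [eq_div_iff hK0, mul_comm, key, pair_five hc hG h2 hinv, Nat.cast_ofNat])
    fun z hz => by
      refine (mul_eq_zero.1 ?_).resolve_left hK0
      rw [key, pair_zero hc hG h2 hz, Nat.cast_zero, zero_mul]
  rw [sum_world hw.fam, Finset.sum_eq_zero (s := (univ.erase (0 : ZMod 5)).image F) fun χ hχ => by
      obtain ⟨b, hb, rfl⟩ := mem_image.1 hχ
      rw [hw.fam.agree b c (mem_erase.1 hb).1 hw.ne h hreg, hF0]
      ring,
    add_zero, Finset.sum_eq_add_of_mem (oneC G) X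
      (mem_others.2 ⟨hasCen_oneC, fun b hb e => fam_ne_oneC hw.fam hb e.symm⟩) hw.mem hw.ne_one.symm
      (fun χ hχ hne => by rw [hw.rest χ hχ hne.1 hne.2, map_zero, mul_zero]),
    hw.at_x, hXh, hX1, show (oneC G : G → ℂ) h = 1 from rfl, show (oneC G : G → ℂ) 1 = 1 from rfl,
    show (oneC G : G → ℂ) x = 1 from rfl, eq_div_iff hK0] at hsum
  simp only [map_one, map_neg] at hsum
  have hCK : (C : ℂ) * K = (Nat.card G : ℂ) := by rw [← Nat.cast_mul, Subgroup.card_mul_index]
  have h3 : ((8 * Nat.card (Subgroup.center G) * Nat.card G : ℕ) : ℂ) = ((45 * C ^ 2 : ℕ) : ℂ) := by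
    push_cast
    linear_combination (9 * (C : ℂ)) * hsum - 8 * (Nat.card (Subgroup.center G) : ℂ) * hCK
  exact_mod_cast h3

end CfsgLib.LinearSmall.FiveThree
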