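import Cfsg.Agent.Lib.LinearSmall.FiveThree.Count
import Cfsg.Agent.Lib.SmallSimple.Order360
import Cfsg.Agent.Lib.SLCard
import Cfsg.Agent.S0494

/-!
# Degree three and the prime five
-/

namespace CfsgLib.LinearSmall.FiveThree

open Cfsg CfsgLib.Blocks CfsgLib.Blocks.DefectOne CfsgLib.CharTheory CfsgLib.CharTheory.SmallDegree
open CfsgLib.SmallSylow CfsgLib.FeitSmall CfsgLib.LinearSmall.Nineteen Finset
open scoped ComplexConjugate commutatorElement

set_option linter.unusedVariables false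
set_option linter.style.haveILetI false
set_option linter.unusedSectionVars false

attribute [local instance] fact_five

universe u

variable {G : Type u} [Group G] [Fintype G] {P : Sylow 5 G} {x : G} {ζ : IrrCharacter G} {a : ZMod 5}
  {D : Data P x 2 2} {F : ZMod 5 → IrrCharacter G} {n : ℕ} {c : ZMod 5} {X : IrrCharacter G}

theorem regular_of_pow {q : ℕ} (hq : q.Prime) (h5 : q ≠ 5) {g : G} (hg : ∃ k, g ^ q ^ k = 1) :
    ¬ 5 ∣ orderOf g := by
  obtain ⟨k, hk⟩ := hg
  intro h
  have h1 : 5 ∣ q := (Fact.out : Nat.Prime 5).dvd_of_dvd_pow (h.trans (orderOf_dvd_of_pow_eq_one hk))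
  exact h5 ((Nat.prime_dvd_prime_iff_eq Fact.out hq).1 h1).symm

theorem five_part (D : Data P x 2 2) {k : ℕ} (hk : 5 ^ k ∣ (Subgroup.center G).index) {N : ℕ}
    (hN : 5 ∣ N) : 5 ^ k ∣ N := by
  have h1 : k ≤ 1 := by
    by_contra h
    exact D.sq_not_dvd ((pow_dvd_pow 5 (show 2 ≤ k by omega)).trans
      (hk.trans (Subgroup.index_dvd_card _)))
  exact (pow_dvd_pow 5 h1).trans (by rwa [pow_one])

theorem sum_one_dvd (H : Subgroup G) [Fintype H] :
    ∃ K : ℤ, ∑ y : H, (1 : ℂ) = (Nat.card H : ℂ) * K :=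
  ⟨1, by rw [sum_const, card_univ, nsmul_eq_mul, Nat.card_eq_fintype_card]; norm_num⟩

/-- The orders when the family has degree three. -/
theorem index_dvd_one (hc : Conf D ζ a) (hw : World D ζ F 1 c X) :
    (Subgroup.center G).index ∣ 120 := by
  classical
  set φ : G → ℂ := (F c : G → ℂ) with hφdef
  have hφ : IsCharacter G φ := isCharacter_of_irr (F c).2
  have hφ2 : IsCharacter G (fun y => φ y * φ y) := isCharacter_mul hφ hφ
  have h1 : φ 1 = 3 := by rw [hφdef, fam_degree hw.fam hw.ne]; norm_num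
  have hk : ∀ {g : G}, φ g = 3 → g ∈ Subgroup.center G := fun {g} hg => by
    refine hc.kernel_central hφ ?_ (hg.trans h1.symm)
    rw [hφdef, hw.fam.vals c hw.ne, if_neg (zero_div_notMem D.A c), fam_degree hw.fam hw.ne]
    norm_num
  have hk2 : ∀ {g : G}, φ g = -3 → g ∈ Subgroup.center G := fun {g} hg => by
    refine hc.kernel_central hφ2 ?_ (by simp only [hg, h1]; norm_num)
    rw [show (fun y => φ y * φ y) = fun y => (F c : G → ℂ) y * (F c : G → ℂ) y from rfl,
      (hw.fam.shape hw.ne).mul D.A hw.ne hw.ne (hw.fam.shape hw.ne) (0 : ZMod 5),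
      h1, cc_zero c hw.ne]
    norm_num
  have hcen : ∀ y ∈ Subgroup.center G, φ y = 3 := fun y hy => by
    have h := (hw.fam.cen c hw.ne) 1 ⟨y, hy⟩
    rw [one_mul, MonoidHom.one_apply, one_mul] at h
    exact h.trans h1
  have hval : ∀ {q : ℕ} [Fact q.Prime] {g : G}, q ≠ 5 → (∃ k, g ^ q ^ k = 1) → g ∉ Subgroup.center G →
      ∃ v : ℤ, φ g = v ∧ -2 ≤ v ∧ v ≤ 2 ∧ (3 : ℤ) % q = v % q := by
    intro q _ g hq hg hnc
    obtain ⟨v, hv⟩ := rational_int_of_invariant hφ g
      (hw.pinv (regular_of_pow Fact.out hq hg))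
    have hm := value_modEq hφ hg hv (b := 3) (by rw [h1]; norm_num)
    have hb := norm_char_le hφ g
    rw [hv, h1, Complex.norm_intCast, Complex.norm_ofNat] at hb
    have hb2 : |v| ≤ 3 := by exact_mod_cast hb
    have n3 : v ≠ 3 := fun e => hnc (hk (by rw [hv, e]; norm_num))
    have n3' : v ≠ -3 := fun e => hnc (hk2 (by rw [hv, e]; norm_num))
    rw [abs_le] at hb2
    exact ⟨v, hv, by omega, by omega, hm⟩
  refine (Nat.dvd_iff_prime_pow_dvd_dvd _ _).2 fun q k hq hd => ?_
  haveI : Fact q.Prime := ⟨hq⟩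
  rcases eq_or_ne q 5 with rfl | h5
  · exact five_part D hd (by norm_num)
  rcases eq_or_ne q 2 with rfl | h2
  · refine (part_dvd (fun y => φ y * φ y - 1) 8 (fun H _ => ?_) (fun y hy hnc => ?_)
      (fun y hy => by rw [hcen y hy]; norm_num) hd).trans (by norm_num)
    · obtain ⟨K, hK⟩ := char_sum_dvd hφ2 H
      obtain ⟨K1, hK1⟩ := sum_one_dvd H
      exact ⟨(K : ℤ) - K1, by rw [Finset.sum_sub_distrib, hK, hK1]; push_cast; ring⟩
    · obtain ⟨v, hv, hlo, hhi, hm⟩ := hval h5 hy hnc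
      rw [hv]
      interval_cases v <;> first | (norm_num; done) | (norm_num at hm)
  rcases eq_or_ne q 3 with rfl | h3
  · refine (part_dvd φ 3 (fun H _ => ?_) (fun y hy hnc => ?_)
      (fun y hy => by rw [hcen y hy]; norm_num) hd).trans (by norm_num)
    · obtain ⟨K, hK⟩ := char_sum_dvd hφ H
      exact ⟨K, by rw [hK]; push_cast; rfl⟩
    · obtain ⟨v, hv, hlo, hhi, hm⟩ := hval h5 hy hnc
      rw [hv]
      interval_cases v <;> first | (norm_num; done) | (norm_num at hm)
  refine (part_dvd (fun _ => (1 : ℂ)) 1 (fun H _ => sum_one_dvd H) (fun y hy hnc => ?_)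
    (fun y hy => by norm_num) hd).trans (one_dvd _)
  exfalso
  obtain ⟨v, hv, hlo, hhi, hm⟩ := hval h5 hy hnc
  have h7 : 7 ≤ q := by
    by_contra h
    interval_cases q <;> first | omega | norm_num at hq
  rw [Int.emod_eq_of_lt (by norm_num) (by omega)] at hm
  rcases lt_or_ge v 0 with hneg | hpos
  · rw [← Int.add_emod_right, Int.emod_eq_of_lt (by omega) (by omega)] at hm
    omega
  · rw [Int.emod_eq_of_lt hpos (by omega)] at hm
    omega

/-- The orders when the square splits as one and a character of degree eight. -/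
theorem index_dvd_two (hc : Conf D ζ a) (hw : World D ζ F 2 c X)
    (hψ : ∀ g, sq ζ g = 1 + (F c : G → ℂ) g) : (Subgroup.center G).index ∣ 60480 := by
  classical
  have hch : IsCharacter G (sq ζ) := isCharacter_sq ζ
  have hcen : ∀ y ∈ Subgroup.center G, sq ζ y = 9 := fun y hy => by
    have h := (hasCen_sq ζ) 1 ⟨y, hy⟩
    rw [one_mul, MonoidHom.one_apply, one_mul] at h
    exact h.trans hc.sq_one
  have hval : ∀ {q : ℕ} [Fact q.Prime] {g : G}, q ≠ 5 → (∃ k, g ^ q ^ k = 1) → g ∉ Subgroup.center G →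
      ∃ v : ℤ, sq ζ g = v ∧ 0 ≤ v ∧ v ≤ 5 ∧ (9 : ℤ) % q = v % q := by
    intro q _ g hq hg hnc
    have hinv : PInv (sq ζ) g := fun m hm => by
      rw [hψ, hψ, hw.pinv (regular_of_pow Fact.out hq hg) m hm]
    obtain ⟨v, hv⟩ := rational_int_of_invariant hch g hinv
    have hm := value_modEq hch hg hv (b := 9) (by rw [hc.sq_one]; norm_num)
    have h0 : 0 ≤ v := by
      have h1 : ((v : ℝ) : ℂ) = ((Complex.normSq ((ζ : G → ℂ) g) : ℝ) : ℂ) := by
        rw [Complex.ofReal_intCast, ← hv, ← Complex.mul_conj, sq]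
      have h2 := Complex.ofReal_inj.1 h1
      exact_mod_cast h2.ge.trans' (Complex.normSq_nonneg _)
    rcases sq_value_cases (isCharacter_of_irr ζ.2) hc.one_eq hg hinv hv with h | h
    · exact ⟨v, hv, h0, h, hm⟩
    · exact absurd (hc.sq_kernel (by rw [hv, h]; norm_num)) hnc
  have hch2 := isCharacter_mul hch hch
  have hch3 := isCharacter_mul hch2 hch
  refine (Nat.dvd_iff_prime_pow_dvd_dvd _ _).2 fun q k hq hd => ?_
  haveI : Fact q.Prime := ⟨hq⟩
  rcases eq_or_ne q 5 with rfl | h5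
  · exact five_part D hd (by norm_num)
  rcases eq_or_ne q 2 with rfl | h2
  · refine (part_dvd (fun y => (sq ζ y - 1) * (sq ζ y - 3) * (sq ζ y - 5)) 192 (fun H _ => ?_)
      (fun y hy hnc => ?_) (fun y hy => by rw [hcen y hy]; norm_num) hd).trans (by norm_num)
    · obtain ⟨K, hK⟩ := char_sum_dvd hch H
      obtain ⟨L, hL⟩ := char_sum_dvd hch2 H
      obtain ⟨M, hM⟩ := char_sum_dvd hch3 H
      obtain ⟨K1, hK1⟩ := sum_one_dvd H
      refine ⟨(M : ℤ) - 9 * L + 23 * K - 15 * K1, ?_⟩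
      rw [Finset.sum_congr (s₁ := (univ : Finset H)) rfl fun y _ => show (sq ζ (y : G) - 1) * (sq ζ (y : G) - 3) * (sq ζ (y : G) - 5) =
        (sq ζ * sq ζ * sq ζ) (y : G) - 9 * (sq ζ * sq ζ) (y : G) + 23 * sq ζ (y : G) - 15 * (1 : ℂ) by
          simp only [Pi.mul_apply]; ring]
      rw [Finset.sum_sub_distrib, Finset.sum_add_distrib, Finset.sum_sub_distrib, ← Finset.mul_sum,
        ← Finset.mul_sum, ← Finset.mul_sum, hK, hL, hM, hK1]
      push_cast
      ring
    · obtain ⟨v, hv, hlo, hhi, hm⟩ := hval h5 hy hnc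
      rw [hv]
      interval_cases v <;> first | (norm_num; done) | (norm_num at hm)
  rcases eq_or_ne q 3 with rfl | h3
  · refine (part_dvd (fun y => sq ζ y * (sq ζ y - 3)) 54 (fun H _ => ?_)
      (fun y hy hnc => ?_) (fun y hy => by rw [hcen y hy]; norm_num) hd).trans (by norm_num)
    · obtain ⟨K, hK⟩ := char_sum_dvd hch H
      obtain ⟨L, hL⟩ := char_sum_dvd hch2 H
      refine ⟨(L : ℤ) - 3 * K, ?_⟩
      rw [Finset.sum_congr (s₁ := (univ : Finset H)) rfl fun y _ => show sq ζ (y : G) * (sq ζ (y : G) - 3) =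
        (sq ζ * sq ζ) (y : G) - 3 * sq ζ (y : G) by simp only [Pi.mul_apply]; ring]
      rw [Finset.sum_sub_distrib, ← Finset.mul_sum, hK, hL]
      push_cast
      ring
    · obtain ⟨v, hv, hlo, hhi, hm⟩ := hval h5 hy hnc
      rw [hv]
      interval_cases v <;> first | (norm_num; done) | (norm_num at hm)
  rcases eq_or_ne q 7 with rfl | h7
  · refine (part_dvd (fun y => sq ζ y - 2) 7 (fun H _ => ?_)
      (fun y hy hnc => ?_) (fun y hy => by rw [hcen y hy]; norm_num) hd).trans (by norm_num)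
    · obtain ⟨K, hK⟩ := char_sum_dvd hch H
      obtain ⟨K1, hK1⟩ := sum_one_dvd H
      refine ⟨(K : ℤ) - 2 * K1, ?_⟩
      rw [Finset.sum_sub_distrib, Finset.sum_congr (g := fun _ : H => 2 * (1 : ℂ)) rfl
        fun y _ => (mul_one (2 : ℂ)).symm, ← Finset.mul_sum, hK, hK1]
      push_cast
      ring
    · obtain ⟨v, hv, hlo, hhi, hm⟩ := hval h5 hy hnc
      rw [hv]
      interval_cases v <;> first | (norm_num; done) | (norm_num at hm)
  refine (part_dvd (fun _ => (1 : ℂ)) 1 (fun H _ => sum_one_dvd H) (fun y hy hnc => ?_)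
    (fun y hy => by norm_num) hd).trans (one_dvd _)
  exfalso
  obtain ⟨v, hv, hlo, hhi, hm⟩ := hval h5 hy hnc
  have h11 : 11 ≤ q := by
    by_contra h
    interval_cases q <;> first | omega | norm_num at hq
  rw [Int.emod_eq_of_lt (by norm_num) (by omega), Int.emod_eq_of_lt hlo (by omega)] at hm
  omega

/-- The order of the central quotient and the number of Sylow subgroups. -/
theorem Conf.index_eq (hc : Conf D ζ a) :
    ∃ s, (Subgroup.center G).index = 10 * s ∧ s % 5 = 1 ∧ s ≠ 1 := by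
  refine ⟨Nat.card (Sylow 5 G), ?_, card_sylow_modEq_one 5 G, fun h1 => hc.nnorm ?_⟩
  · have h := CfsgLib.SmallSylow.card_eq_mul P
    rw [D.hq] at h
    have h2 : Nat.card (Subgroup.centralizer ((P : Subgroup G) : Set G)) =
        5 * Nat.card (Subgroup.center G) := by
      rw [show Subgroup.centralizer ((P : Subgroup G) : Set G) = cen (P : Subgroup G) from rfl,
        ← hc.compl.card]
      congr 1
      exact D.hP
    rw [h2, ← (Subgroup.center G).card_mul_index] at h
    refine Nat.eq_of_mul_eq_mul_left (Nat.card_pos (α := Subgroup.center G)) ?_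
    rw [h]; ring
  · haveI : Subsingleton (Sylow 5 G) := (Nat.card_eq_one_iff_unique.1 h1).1
    exact Sylow.normal_of_subsingleton P

/-- The central quotient is simple. -/
theorem Conf.simple (hc : Conf D ζ a) (hG : commutator G = ⊤) :
    IsSimpleGroup (G ⧸ Subgroup.center G) := by
  classical
  obtain ⟨s, hs, hs5, -⟩ := hc.index_eq
  haveI : Nontrivial (G ⧸ Subgroup.center G) := by
    rw [← Finite.one_lt_card_iff_nontrivial, ← Subgroup.index_eq_card, hs]
    omega
  refine ⟨fun N hN => ?_⟩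
  haveI := hN
  set M := N.comap (QuotientGroup.mk' (Subgroup.center G)) with hM
  haveI : M.Normal := hN.comap _
  have hback : N = M.map (QuotientGroup.mk' (Subgroup.center G)) :=
    (Subgroup.map_comap_eq_self_of_surjective (QuotientGroup.mk'_surjective _) N).symm
  obtain ⟨R0, hR0, -, -⟩ := CfsgLib.FeitSmall.exists_rep ζ hc.faith
  by_cases h5 : 5 ∣ Nat.card M
  · right
    obtain ⟨y, hy⟩ := exists_prime_orderOf_dvd_card' 5 h5
    have hyG : orderOf (y : G) = 5 := by rw [Subgroup.orderOf_coe, hy]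
    obtain ⟨Q, hQ⟩ := (IsPGroup.of_card (n := 1) (by rw [Nat.card_zpowers, hyG, pow_one]) :
      IsPGroup 5 (Subgroup.zpowers (y : G))).exists_le_sylow
    obtain ⟨b, hb⟩ := MulAction.exists_smul_eq G Q P
    have h1 : b * (y : G) * b⁻¹ ∈ (P : Subgroup G) := by
      rw [← hb, Sylow.coe_subgroup_smul]
      exact Subgroup.smul_mem_pointwise_smul (y : G) (MulAut.conj b) _ (hQ (Subgroup.mem_zpowers _))
    have h2 : b * (y : G) * b⁻¹ ≠ 1 := fun h0 => by
      rw [conj_eq_one_iff] at h0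
      rw [h0, orderOf_one] at hyG
      norm_num at hyG
    have hPM : (P : Subgroup G) ≤ M := by
      rw [← (CfsgLib.Blocks.DefectOne.zpowers_eq D.setup D.hP h1 h2).1, Subgroup.zpowers_le]
      exact Subgroup.Normal.conj_mem inferInstance _ y.2 b
    have hZM : Subgroup.center G ≤ M := fun z hz => by
      rw [hM, Subgroup.mem_comap, show QuotientGroup.mk' (Subgroup.center G) z = 1 from
        (QuotientGroup.eq_one_iff z).2 hz]
      exact one_mem _
    set Nn := Subgroup.normalizer ((P : Subgroup G) : Set G)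
    let f : Nn →* G ⧸ M := (QuotientGroup.mk' M).comp Nn.subtype
    have hfs : Function.Surjective f := by
      intro g
      obtain ⟨g, rfl⟩ := QuotientGroup.mk'_surjective M g
      have htop : Nn ⊔ M = ⊤ := Sylow.normalizer_sup_eq_top' P hPM
      obtain ⟨k, hk, m, hm, rfl⟩ := Subgroup.mem_sup_of_normal_right.1 (htop ▸ Subgroup.mem_top g : g ∈ Nn ⊔ M)
      refine ⟨⟨k, hk⟩, ?_⟩
      show QuotientGroup.mk' M k = _
      rw [map_mul, show QuotientGroup.mk' M m = 1 from (QuotientGroup.eq_one_iff m).2 hm, mul_one]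
    have hCk : (Subgroup.centralizer ((P : Subgroup G) : Set G)).subgroupOf Nn ≤ f.ker := by
      intro k hk
      obtain ⟨q, hq, z, hz, hqz⟩ := hc.compl.prod (k : G) hk
      refine (QuotientGroup.eq_one_iff (k : G)).2 ?_
      rw [hqz]
      exact mul_mem (hPM hq) (hZM hz)
    have hidx : M.index ∣ 2 := by
      rw [Subgroup.index_eq_card, ← Nat.card_congr (QuotientGroup.quotientKerEquivOfSurjective f hfs).toEquiv,
        ← Subgroup.index_eq_card]
      refine (Subgroup.index_dvd_of_le hCk).trans ?_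
      show inIdx P ∣ 2
      rw [D.hq]
    have hMtop : M = ⊤ := by
      rw [eq_top_iff, ← hG, commutator_def, Subgroup.commutator_le]
      intro g _ k _
      have hle : Nat.card (G ⧸ M) ≤ 2 := by
        rw [← Subgroup.index_eq_card]; exact Nat.le_of_dvd (by norm_num) hidx
      haveI : IsCyclic (G ⧸ M) := by
        rcases (show Nat.card (G ⧸ M) = 1 ∨ Nat.card (G ⧸ M) = 2 by
          have := Nat.card_pos (α := G ⧸ M); omega) with e | e
        · haveI := (Nat.card_eq_one_iff_unique.1 e).1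
          infer_instance
        · exact isCyclic_of_prime_card (p := 2) e
      rw [← QuotientGroup.eq_one_iff, ← QuotientGroup.mk'_apply, map_commutatorElement,
        commutatorElement_eq_one_iff_mul_comm]
      exact IsCyclic.commGroup.mul_comm _ _
    rw [hback, hMtop, Subgroup.map_top_of_surjective _ (QuotientGroup.mk'_surjective _)]
  · left
    rw [Subgroup.eq_bot_iff_forall, hback]
    rintro _ ⟨g, hg, rfl⟩
    refine (QuotientGroup.eq_one_iff g).2 ?_
    have hcm := CfsgLib.SmallRep.commute_of_small (R := R0) (p := 5) hR0 D.pow (by rw [hc.deg]; norm_num) _ M rfl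
      h5 (fun y hy => Subgroup.Normal.conj_mem inferInstance y hy x) g hg
    obtain ⟨q, hq, z, hz, hqz⟩ := hc.compl.prod g (D.setup.free D.mem D.ne (g := g) (by
      rw [← hcm, mul_inv_cancel_right]))
    have hqM : q ∈ M := by
      have hzM : z ∈ M := by
        rw [hM, Subgroup.mem_comap, show QuotientGroup.mk' (Subgroup.center G) z = 1 from
          (QuotientGroup.eq_one_iff z).2 hz]
        exact one_mem _
      have := M.mul_mem hg (M.inv_mem hzM)
      rwa [hqz, mul_inv_cancel_right] at this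
    have h3 : q = 1 := by
      rw [← orderOf_eq_one_iff]
      refine Nat.eq_one_of_dvd_coprimes (((Fact.out : Nat.Prime 5).coprime_iff_not_dvd.2 h5))
        (orderOf_dvd_of_pow_eq_one (pow_card_of_mem D.hP hq)) ?_
      exact Subgroup.orderOf_mk q hqM ▸ orderOf_dvd_natCard (⟨q, hqM⟩ : M)
    rw [hqz, h3, one_mul]; exact hz

theorem six_mod : ∀ m ≤ 120, m ∣ 120 → m % 10 = 0 → m / 10 % 5 = 1 → m ≠ 10 → m = 60 := by decide +kernel

theorem cent_bound {m k : ℕ} (h : 8 * m = 45 * k ^ 2) (hm : m ∣ 60480) (hk : k ∣ m) (h10 : m % 10 = 0)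
    (h5 : m / 10 % 5 = 1) : m = 360 := by
  have hk2 : k < 104 := by
    have := Nat.le_of_dvd (by norm_num) hm
    by_contra hlt
    have : 104 ^ 2 ≤ k ^ 2 := Nat.pow_le_pow_left (by omega) 2
    omega
  have hall : ∀ k : Fin 104, (45 * k.val ^ 2) % 8 = 0 → (60480 % (45 * k.val ^ 2 / 8) = 0) →
      (45 * k.val ^ 2 / 8) % k.val = 0 → (45 * k.val ^ 2 / 8) % 10 = 0 → (45 * k.val ^ 2 / 8) / 10 % 5 = 1 →
      45 * k.val ^ 2 / 8 = 360 := by decide +kernel
  have e : 45 * k ^ 2 / 8 = m := by omega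
  have := hall ⟨k, hk2⟩ (by simp only; omega) (by simp only; rw [e]; exact Nat.mod_eq_zero_of_dvd hm)
    (by simp only; rw [e]; exact Nat.mod_eq_zero_of_dvd hk) (by simp only; rw [e]; exact h10)
    (by simp only; rw [e]; exact h5)
  simp only at this
  omega

theorem perfect_quotient (P : Sylow 5 G) (hP : Nat.card P = 5) (hnn : ¬ (P : Subgroup G).Normal)
    (ζ : IrrCharacter G) (hfaith : ∀ g : G, (ζ : G → ℂ) g = (ζ : G → ℂ) 1 → g = 1)
    (hdeg : charDegree (ζ : G → ℂ) = 3) (hG : commutator G = ⊤) :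
    Nonempty (G ⧸ Subgroup.center G ≃* Matrix.ProjectiveSpecialLinearGroup (Fin 2) (ZMod 5)) ∨
      Nonempty (G ⧸ Subgroup.center G ≃* ↥(alternatingGroup (Fin 6))) := by
  classical
  obtain ⟨x, D, a, hc⟩ := exists_conf P hP hnn ζ hfaith hdeg
  obtain ⟨F, n, c, X, hw⟩ := hc.exists_world hG
  haveI := hc.simple hG
  obtain ⟨s, hs, hs5, hs1⟩ := hc.index_eq
  rcases hw.cases with rfl | ⟨rfl, hψ⟩
  · left
    have hd := index_dvd_one hc hw
    have h60 : (Subgroup.center G).index = 60 :=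
      six_mod _ (Nat.le_of_dvd (by norm_num) hd) hd (by omega) (by omega) (by omega)
    rw [Subgroup.index_eq_card] at h60
    haveI : IsSimpleGroup (Matrix.ProjectiveSpecialLinearGroup (Fin 2) (ZMod 5)) :=
      Matrix.ProjectiveSpecialLinearGroup.rank_two_simple (by rw [Nat.card_zmod]; norm_num)
    have hp : Nat.card (Matrix.ProjectiveSpecialLinearGroup (Fin 2) (ZMod 5)) = 60 := by
      have h := CfsgLib.SLCard.gcd_mul_card_PSL (F := ZMod 5) (n := 2) (by norm_num)
      rw [CfsgLib.SLCard.card_SL_two, ZMod.card] at h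
      rw [show Nat.gcd 2 (5 - 1) = 2 from rfl] at h
      norm_num at h ⊢
      linarith
    obtain ⟨e1⟩ := Cfsg.Agent.S0494.result (G := G ⧸ Subgroup.center G) h60
    obtain ⟨e2⟩ := Cfsg.Agent.S0494.result (G := Matrix.ProjectiveSpecialLinearGroup (Fin 2) (ZMod 5)) hp
    exact ⟨e1.trans e2.symm⟩
  · right
    obtain ⟨h, h2, hinv, hnc, hreg⟩ := hc.exists_invol hG
    have hid := count_identity hc hG hw hψ h2 hinv hnc hreg
    obtain ⟨k, hk⟩ : Nat.card (Subgroup.center G) ∣ Nat.card (Subgroup.centralizer ({h} : Set G)) :=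
      Subgroup.card_dvd_of_le fun z hz => Subgroup.mem_centralizer_singleton_iff.2
        (Subgroup.mem_center_iff.1 hz h).symm
    have hC := Subgroup.card_subgroup_dvd_card (Subgroup.centralizer ({h} : Set G))
    rw [hk, ← (Subgroup.center G).card_mul_index] at hid hC
    have hkm : k ∣ (Subgroup.center G).index :=
      Nat.dvd_of_mul_dvd_mul_left Nat.card_pos hC
    have h8 : 8 * (Subgroup.center G).index = 45 * k ^ 2 := by
      refine Nat.eq_of_mul_eq_mul_left (Nat.mul_pos (Nat.card_pos (α := Subgroup.center G))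
        (Nat.card_pos (α := Subgroup.center G))) ?_
      linear_combination hid
    have h360 := cent_bound h8 (index_dvd_two hc hw hψ) hkm (by omega) (by omega)
    rw [Subgroup.index_eq_card] at h360
    exact CfsgLib.Order360.iso_A6 h360

/-- The central quotient of a group with a faithful irreducible character of degree three and a nonnormal
Sylow subgroup of order five. -/
theorem quotient_center {G : Type u} [Group G] [Fintype G] (P : Sylow 5 G) (hP : Nat.card P = 5)
    (hnn : ¬ (P : Subgroup G).Normal) (ζ : IrrCharacter G)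
    (hfaith : ∀ g : G, (ζ : G → ℂ) g = (ζ : G → ℂ) 1 → g = 1) (hdeg : charDegree (ζ : G → ℂ) = 3) :
    Nonempty (G ⧸ Subgroup.center G ≃* Matrix.ProjectiveSpecialLinearGroup (Fin 2) (ZMod 5)) ∨
      Nonempty (G ⧸ Subgroup.center G ≃* ↥(alternatingGroup (Fin 6))) := by
  classical
  obtain ⟨x, D, a, hc⟩ := exists_conf P hP hnn ζ hfaith hdeg
  set L := commutator G with hL
  letI : Fintype L := Fintype.ofFinite _
  have hPL : (P : Subgroup G) ≤ L := D.le_commutator (by norm_num)
  obtain ⟨hirr, hnnL⟩ := restrict_irreducible D ζ hfaith hnn (by omega) (by norm_num) L hPL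
  set P' : Sylow 5 L := P.subtype hPL with hP'
  have hP'c : (P' : Subgroup L) = (P : Subgroup G).subgroupOf L := rfl
  have hcard : Nat.card P' = 5 := by
    show Nat.card (P' : Subgroup L) = 5
    rw [hP'c, Nat.card_congr (Subgroup.subgroupOfEquivOfLe hPL).toEquiv]
    exact D.hP
  rw [← hP'c] at hnnL
  let ζ' : IrrCharacter L := ⟨fun g : L => (ζ : G → ℂ) g, hirr⟩
  have hdeg' : charDegree (ζ' : L → ℂ) = 3 := by
    rw [← hdeg]
    apply Nat.cast_injective (R := ℂ)
    rw [irr_charDegree_cast, irr_charDegree_cast]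
    rfl
  have hfaith' : ∀ g : L, (ζ' : L → ℂ) g = (ζ' : L → ℂ) 1 → g = 1 := fun g hg => Subtype.ext (hfaith g hg)
  obtain ⟨x', D', a', hc'⟩ := exists_conf P' hcard hnnL ζ' hfaith' hdeg'
  -- an element of `L` inverting `P`
  obtain ⟨m, hm, hmx⟩ := (D'.exps (-1)).1 (by rw [mem_rts]; norm_num)
  have hx'P : ((x' : L) : G) ∈ (P : Subgroup G) := D'.mem
  have hx'1 : ((x' : L) : G) ≠ 1 := fun e => D'.ne (Subtype.ext e)
  have hmG : (m : G) ∈ Subgroup.normalizer ((P : Subgroup G) : Set G) := by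
    rw [Subgroup.mem_normalizer_iff]
    intro y
    constructor
    · intro hy
      exact (Subgroup.mem_normalizer_iff.1 hm ⟨y, hPL hy⟩).1 hy
    · intro hy
      have hyL : y ∈ L := by
        have h := L.mul_mem (L.mul_mem (L.inv_mem m.2) (hPL hy)) m.2
        rwa [show (m : G)⁻¹ * ((m : G) * y * (m : G)⁻¹) * (m : G) = y by group] at h
      exact (Subgroup.mem_normalizer_iff.1 hm ⟨y, hyL⟩).2 hy
  have hsup : L ⊔ Subgroup.center G = ⊤ := by
    rw [eq_top_iff, ← Sylow.normalizer_sup_eq_top' P (N := L) hPL, sup_le_iff]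
    refine ⟨fun g hg => ?_, le_sup_left⟩
    obtain ⟨i, hi⟩ := D.exists_xp ((Subgroup.mem_normalizer_iff.1 hg x).1 D.mem)
    have hiR : i ∈ rts 5 2 := (D.exps i).2 ⟨g, hg, hi⟩
    have hPZ : ∀ k : G, k * x * k⁻¹ = x → k ∈ L ⊔ Subgroup.center G := fun k hk => by
      obtain ⟨q, hq, z, hz, hqz⟩ := hc.compl.prod k (D.setup.free D.mem D.ne hk)
      rw [hqz]
      exact mul_mem (le_sup_left (a := L) (hPL hq)) (le_sup_right (a := L) hz)
    rw [mem_rts] at hiR
    rcases (show ∀ i : ZMod 5, i ^ 2 = 1 → i = 1 ∨ i = -1 by decide) i hiR with rfl | rfl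
    · exact hPZ g (by rw [hi, xp_one])
    · obtain ⟨j, hj⟩ := D.exists_xp hx'P
      have hmx' : (m : G) * x * (m : G)⁻¹ = xp x (-1 : ZMod 5) := by
        obtain ⟨l, hl⟩ := D.exists_xp ((Subgroup.mem_normalizer_iff.1 hmG x).1 D.mem)
        have e1 : (m : G) * xp x j * (m : G)⁻¹ = xp x (l * j) := by
          rw [xp_mul D.pow, ← hl, conj_pow]; rfl
        have e2 : ((m : G) * xp x j * (m : G)⁻¹) = xp x (-1 * j) := by
          have h3 := congrArg Subtype.val hmx
          simp only [Subgroup.coe_mul, Subgroup.coe_inv, xp, SubmonoidClass.coe_pow] at h3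
          rw [← hj]
          show _ = xp x (-1 * j)
          rw [h3, xp_mul D.pow, hj]
          simp only [xp, ← pow_mul]
          rw [mul_comm]
        have hj0 : j ≠ 0 := fun h0 => hx'1 (by rw [hj, h0, xp_zero])
        rw [hl, mul_right_cancel₀ hj0 (D.xp_inj (e1.symm.trans e2))]
      have h1 := hPZ ((m : G) * g) (by
        rw [show (m : G) * g * x * ((m : G) * g)⁻¹ = (m : G) * (g * x * g⁻¹) * (m : G)⁻¹ by group, hi, xp,
          ← conj_pow, hmx', ← show xp (xp x (-1 : ZMod 5)) ((-1 : ZMod 5)) = xp x (-1 : ZMod 5) ^ (-1 : ZMod 5).val from rfl]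
        rw [xp, ← xp_mul D.pow, neg_one_mul, neg_neg, xp_one])
      have h2 := mul_mem (le_sup_left (b := Subgroup.center G) (L.inv_mem m.2)) h1
      rwa [inv_mul_cancel_left] at h2
  have hperf : commutator L = ⊤ := by
    have hle : commutator G ≤ (commutator L).map L.subtype := by
      rw [commutator_def G, Subgroup.commutator_le]
      intro g _ k _
      obtain ⟨g₁, hg₁, g₂, hg₂, rfl⟩ := Subgroup.mem_sup_of_normal_right.1 (hsup ▸ Subgroup.mem_top g : g ∈ L ⊔ Subgroup.center G)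
      obtain ⟨k₁, hk₁, k₂, hk₂, rfl⟩ := Subgroup.mem_sup_of_normal_right.1 (hsup ▸ Subgroup.mem_top k : k ∈ L ⊔ Subgroup.center G)
      refine ⟨⁅(⟨g₁, hg₁⟩ : L), ⟨k₁, hk₁⟩⁆, Subgroup.commutator_mem_commutator (Subgroup.mem_top _) (Subgroup.mem_top _), ?_⟩
      rw [map_commutatorElement]
      show ⁅g₁, k₁⁆ = ⁅g₁ * g₂, k₁ * k₂⁆
      have cg : ∀ y, g₂ * y = y * g₂ := fun y => (Subgroup.mem_center_iff.1 hg₂ y).symm
      have ck : ∀ y, k₂ * y = y * k₂ := fun y => (Subgroup.mem_center_iff.1 hk₂ y).symm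
      simp only [commutatorElement_def, _root_.mul_inv_rev]
      rw [show g₁ * g₂ * (k₁ * k₂) * (g₂⁻¹ * g₁⁻¹) * (k₂⁻¹ * k₁⁻¹) =
        g₁ * (g₂ * (k₁ * k₂)) * g₂⁻¹ * g₁⁻¹ * (k₂⁻¹ * k₁⁻¹) by group, cg (k₁ * k₂)]
      rw [show g₁ * (k₁ * k₂ * g₂) * g₂⁻¹ * g₁⁻¹ * (k₂⁻¹ * k₁⁻¹) =
        g₁ * k₁ * (k₂ * g₁⁻¹) * k₂⁻¹ * k₁⁻¹ by group, ck g₁⁻¹]
      group
    rw [eq_top_iff]
    intro y _
    obtain ⟨y', hy', e⟩ := hle y.2
    rwa [← Subtype.ext e]
  let f : L →* G ⧸ Subgroup.center G := (QuotientGroup.mk' (Subgroup.center G)).comp L.subtype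
  have hfs : Function.Surjective f := by
    intro g
    obtain ⟨g, rfl⟩ := QuotientGroup.mk'_surjective _ g
    obtain ⟨g₁, hg₁, g₂, hg₂, rfl⟩ := Subgroup.mem_sup_of_normal_right.1 (hsup ▸ Subgroup.mem_top g : g ∈ L ⊔ Subgroup.center G)
    refine ⟨⟨g₁, hg₁⟩, ?_⟩
    show QuotientGroup.mk' _ g₁ = _
    rw [map_mul, show QuotientGroup.mk' (Subgroup.center G) g₂ = 1 from (QuotientGroup.eq_one_iff g₂).2 hg₂, mul_one]
  have hker : f.ker = Subgroup.center L := by
    ext y
    rw [MonoidHom.mem_ker, show f y = ((y : G) : G ⧸ Subgroup.center G) from rfl, QuotientGroup.eq_one_iff,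
      Subgroup.mem_center_iff, Subgroup.mem_center_iff]
    constructor
    · exact fun h k => Subtype.ext (h k)
    · intro h k
      obtain ⟨k₁, hk₁, k₂, hk₂, rfl⟩ := Subgroup.mem_sup_of_normal_right.1 (hsup ▸ Subgroup.mem_top k : k ∈ L ⊔ Subgroup.center G)
      have e1 : k₁ * (y : G) = y * k₁ := congrArg Subtype.val (h ⟨k₁, hk₁⟩)
      rw [mul_assoc, ← Subgroup.mem_center_iff.1 hk₂ (y : G), ← mul_assoc, e1, mul_assoc]
  let e : L ⧸ Subgroup.center L ≃* G ⧸ Subgroup.center G :=
    (QuotientGroup.quotientMulEquivOfEq hker.symm).trans (QuotientGroup.quotientKerEquivOfSurjective f hfs)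
  rcases perfect_quotient P' hcard hnnL ζ' hfaith' hdeg' hperf with h | h
  · exact h.elim fun e' => Or.inl ⟨e.symm.trans e'⟩
  · exact h.elim fun e' => Or.inr ⟨e.symm.trans e'⟩

end CfsgLib.LinearSmall.FiveThree
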