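import Cfsg.Agent.Lib.FeitSmall.Main

/-!
# Sums of rational characters over subgroups of prime power order
-/

namespace CfsgLib.LinearSmall.FiveThree

open Cfsg CfsgLib.Blocks CfsgLib.CharTheory Finset
open scoped ComplexConjugate

set_option linter.unusedVariables false
set_option linter.style.haveILetI false
set_option linter.unusedSectionVars false

universe u

variable {G : Type u} [Group G] [Fintype G]

/-- A value invariant under the powers prime to the group order. -/
def PInv (f : G → ℂ) (g : G) : Prop := ∀ m : ℕ, m.Coprime (Nat.card G) → f (g ^ m) = f g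

theorem char_sum_dvd {f : G → ℂ} (hf : IsCharacter G f) (H : Subgroup G) [Fintype H] :
    ∃ n : ℕ, ∑ y : H, f y = (Nat.card H : ℂ) * n := by
  obtain ⟨d, R, rfl⟩ := hf
  haveI : Invertible (Nat.card H : ℂ) := invertibleOfNonzero (Nat.cast_ne_zero.2 Nat.card_pos.ne')
  have h := Representation.card_inv_mul_sum_char_eq_finrank (ρ := R.comp H.subtype)
  refine ⟨Module.finrank ℂ (Representation.invariants (R.comp H.subtype)), ?_⟩
  rw [← h, mul_inv_cancel_left₀ (Nat.cast_ne_zero.2 Nat.card_pos.ne')]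
  rfl

/-- A function vanishing off the centre whose subgroup sums are divisible by the order bounds the prime power
dividing the index of the centre. -/
theorem part_dvd {q : ℕ} [Fact q.Prime] (f : G → ℂ) (P0 : ℕ)
    (hsum : ∀ (H : Subgroup G) [Fintype H], ∃ K : ℤ, ∑ y : H, f y = (Nat.card H : ℂ) * K)
    (hoff : ∀ y : G, (∃ k, y ^ q ^ k = 1) → y ∉ Subgroup.center G → f y = 0)
    (hon : ∀ y ∈ Subgroup.center G, f y = P0) {k : ℕ}
    (hk : q ^ k ∣ (Subgroup.center G).index) : q ^ k ∣ P0 := by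
  classical
  rcases Nat.eq_zero_or_pos P0 with h0 | h0
  · exact h0 ▸ dvd_zero _
  obtain ⟨Q⟩ : Nonempty (Sylow q G) := inferInstance
  set Z := Subgroup.center G
  obtain ⟨K, hK⟩ := hsum (Q : Subgroup G)
  have hval : ∀ y : (Q : Subgroup G), f y = if (y : G) ∈ Z then (P0 : ℂ) else 0 := fun y => by
    split_ifs with h
    · exact hon _ h
    · obtain ⟨i, hi⟩ := Q.2 y
      exact hoff _ ⟨i, by simpa using congrArg Subtype.val hi⟩ h
  rw [Finset.sum_congr rfl fun y _ => hval y, ← Finset.sum_filter, sum_const, nsmul_eq_mul] at hK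
  have hN : Nat.card (Z.subgroupOf (Q : Subgroup G)) =
      (univ.filter fun y : (Q : Subgroup G) => (y : G) ∈ Z).card := by
    rw [Nat.card_eq_fintype_card, Fintype.card_subtype]
    exact congrArg Finset.card (Finset.filter_congr fun y _ => Subgroup.mem_subgroupOf)
  have hd : Nat.card (Q : Subgroup G) ∣ Nat.card (Z.subgroupOf (Q : Subgroup G)) * P0 := by
    rw [hN]
    refine Int.natCast_dvd_natCast.1 ⟨K, ?_⟩
    exact_mod_cast hK
  have h2 : Nat.card (Z.subgroupOf (Q : Subgroup G)) ∣ Nat.card Z := by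
    rw [← Subgroup.card_map_of_injective (Subgroup.subtype_injective _)]
    exact Subgroup.card_dvd_of_le (by rintro _ ⟨y, hy, rfl⟩; exact hy)
  have hd' := hd.trans (Nat.mul_dvd_mul_right h2 P0)
  rw [Sylow.card_eq_multiplicity] at hd'
  have hq : q.Prime := Fact.out
  have e1 := (hq.pow_dvd_iff_le_factorization
    (Nat.mul_ne_zero Nat.card_pos.ne' h0.ne')).1 hd'
  have e2 := (hq.pow_dvd_iff_le_factorization Subgroup.index_ne_zero_of_finite).1 hk
  rw [← Z.card_mul_index, Nat.factorization_mul Nat.card_pos.ne' Subgroup.index_ne_zero_of_finite,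
    Nat.factorization_mul Nat.card_pos.ne' h0.ne', Finsupp.add_apply, Finsupp.add_apply] at e1
  exact (hq.pow_dvd_iff_le_factorization h0.ne').2 (by omega)

/-- The dimension of the fixed space in the square of a character of degree three. -/
theorem sum_sq_cases {ι : Type*} [Fintype ι] [DecidableEq ι] (c : ι → ℕ) (h : ∑ i, c i ≤ 3) :
    ∑ i, c i ^ 2 ≤ 5 ∨ ∑ i, c i ^ 2 = 9 := by
  by_cases h2 : ∃ i, 2 ≤ c i
  · obtain ⟨i, hi⟩ := h2
    rw [← Finset.add_sum_erase _ _ (mem_univ i)] at h ⊢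
    have h1 : ∑ j ∈ univ.erase i, c j ^ 2 ≤ (∑ j ∈ univ.erase i, c j) ^ 2 :=
      Finset.sum_sq_le_sq_sum_of_nonneg fun j _ => Nat.zero_le _
    rcases (show c i = 2 ∨ c i = 3 by omega) with e | e
    · left
      have h3 : ∑ j ∈ univ.erase i, c j ≤ 1 := by omega
      have h4 := Nat.pow_le_pow_left h3 2
      rw [e]; omega
    · right
      rw [show ∑ j ∈ univ.erase i, c j = 0 by omega, Nat.zero_pow (by norm_num)] at h1
      rw [e, Nat.le_zero.1 h1]; norm_num
  · left
    push Not at h2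
    rw [Finset.sum_congr rfl fun i _ => show c i ^ 2 = c i by
      have := h2 i
      rcases (show c i = 0 ∨ c i = 1 by omega) with e | e <;> rw [e] <;> norm_num]
    exact le_trans h (by norm_num)

/-- The square of a character of degree three on a subgroup. -/
theorem sq_fixed_cases {θ : G → ℂ} (hθ : IsCharacter G θ) (h3 : θ 1 = 3) (H : Subgroup G) [Fintype H] :
    ∃ n : ℕ, ∑ y : H, θ y * conj (θ y) = (Nat.card H : ℂ) * n ∧ (n ≤ 5 ∨ n = 9) := by
  classical
  have hr := isCharacter_restrict hθ H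
  obtain ⟨c, hsum, hc, hn⟩ := classInner_self_eq_sum_sq (isGenChar_of_char hr)
  choose k hk using fun ψ : IrrCharacter H => classInner_char_nat hr (isCharacter_of_irr ψ.2)
  have hck : ∀ ψ, c ψ = (k ψ : ℤ) := fun ψ => by exact_mod_cast (hc ψ).symm.trans (hk ψ)
  refine ⟨∑ ψ, k ψ ^ 2, ?_, sum_sq_cases k ?_⟩
  · rw [classInner, inv_mul_eq_iff_eq_mul₀ (Nat.cast_ne_zero.2 Nat.card_pos.ne')] at hn
    rw [hn, Finset.sum_congr rfl fun ψ _ => by rw [hck ψ]]
    push_cast
    rfl
  · have h1 := congrFun hsum 1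
    simp only [Finset.sum_apply, Pi.smul_apply, smul_eq_mul, hck, Int.cast_natCast,
      OneMemClass.coe_one, h3] at h1
    rw [Finset.sum_congr rfl fun ψ _ => by rw [← irr_charDegree_cast ψ, ← Nat.cast_mul]] at h1
    have h2 : 3 = ∑ ψ : IrrCharacter H, k ψ * charDegree (ψ : H → ℂ) := by exact_mod_cast h1
    rw [h2]
    refine Finset.sum_le_sum fun ψ _ => Nat.le_mul_of_pos_right _ (Nat.pos_of_ne_zero fun h0 => ?_)
    exact irr_one_ne_zero ψ (by rw [← irr_charDegree_cast, h0, Nat.cast_zero])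

theorem sum_zpowers (g : G) (f : G → ℂ) [Fintype (Subgroup.zpowers g)] :
    ∑ y : Subgroup.zpowers g, f y = ∑ i ∈ range (orderOf g), f (g ^ i) := by
  rw [← Fin.sum_univ_eq_sum_range (fun i => f (g ^ i))]
  exact (Fintype.sum_equiv (finEquivZPowers (isOfFinOrder_of_finite g)) _ _ fun i => rfl).symm

/-- A rational value of the square is at most five or equal to nine. -/
theorem sq_value_cases {θ : G → ℂ} (hθ : IsCharacter G θ) (h3 : θ 1 = 3) {q : ℕ} [Fact q.Prime] {g : G}
    (hg : ∃ k, g ^ q ^ k = 1) (hinv : PInv (fun y => θ y * conj (θ y)) g) {v : ℤ}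
    (hv : θ g * conj (θ g) = v) : v ≤ 5 ∨ v = 9 := by
  classical
  set ψ : G → ℂ := fun y => θ y * conj (θ y) with hψ
  have hq : q.Prime := Fact.out
  obtain ⟨k₀, hk₀⟩ := hg
  obtain ⟨k, -, hk⟩ := (Nat.dvd_prime_pow hq).1 (orderOf_dvd_of_pow_eq_one hk₀)
  rcases k with _ | k
  · right
    rw [pow_zero, orderOf_eq_one_iff] at hk
    rw [hk, h3, map_ofNat] at hv
    norm_num at hv
    exact_mod_cast hv.symm
  obtain ⟨n, hn, hn'⟩ := sq_fixed_cases hθ h3 (Subgroup.zpowers g)
  have hchar : IsCharacter G ψ := isCharacter_mul hθ (isCharacter_conj hθ)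
  obtain ⟨d, R, hR⟩ := hchar
  have hd : d = 9 := by
    apply Nat.cast_injective (R := ℂ)
    rw [show (d : ℂ) = R.character 1 by rw [R.char_one, Module.finrank_fin_fun], hR, hψ]
    simp only [h3, map_ofNat]
    norm_num
  have hinvdim : ∀ (H : Subgroup G) [Fintype H], ∑ y : H, ψ y =
      (Nat.card H : ℂ) * Module.finrank ℂ (Representation.invariants (R.comp H.subtype)) := fun H _ => by
    haveI : Invertible (Nat.card H : ℂ) := invertibleOfNonzero (Nat.cast_ne_zero.2 Nat.card_pos.ne')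
    have h := Representation.card_inv_mul_sum_char_eq_finrank (ρ := R.comp H.subtype)
    rw [← h, mul_inv_cancel_left₀ (Nat.cast_ne_zero.2 Nat.card_pos.ne'), ← hR]
    rfl
  set m := Module.finrank ℂ (Representation.invariants (R.comp (Subgroup.zpowers g).subtype)) with hm
  have hnm : n = m := by
    have h1 := hn.symm.trans (hinvdim (Subgroup.zpowers g))
    exact_mod_cast mul_left_cancel₀ (Nat.cast_ne_zero.2 Nat.card_pos.ne') h1
  rcases hn' with hn5 | hn9
  swap
  · -- everything is fixed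
    right
    have htop : Representation.invariants (R.comp (Subgroup.zpowers g).subtype) = ⊤ :=
      Submodule.eq_top_of_finrank_eq (by rw [← hm, ← hnm, hn9, Module.finrank_fin_fun, hd])
    have hRg : R g = 1 := LinearMap.ext fun w => by
      rw [Module.End.one_apply]
      have hw : w ∈ Representation.invariants (R.comp (Subgroup.zpowers g).subtype) := htop ▸ Submodule.mem_top
      exact hw ⟨g, Subgroup.mem_zpowers g⟩
    have h1 : ψ g = 9 := by
      rw [← hR, Representation.character, hRg, LinearMap.trace_one, Module.finrank_fin_fun, hd]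
      norm_num
    rw [hψ] at h1
    exact_mod_cast hv.symm.trans h1
  left
  set g' := g ^ q
  set m' := Module.finrank ℂ (Representation.invariants (R.comp (Subgroup.zpowers g').subtype)) with hm'
  have hle : m ≤ m' := Submodule.finrank_mono fun w hw y =>
    hw ⟨(y : G), Subgroup.zpowers_le.2 (pow_mem (Subgroup.mem_zpowers g) q) y.2⟩
  have ho' : orderOf g' = q ^ k := by
    rw [orderOf_pow_of_dvd hq.ne_zero (hk ▸ dvd_pow_self q k.succ_ne_zero), hk, pow_succ,
      Nat.mul_div_cancel _ hq.pos]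
  have hgen : ∀ i, ¬ q ∣ i → ψ (g ^ i) = (v : ℂ) := by
    intro i hi
    have hco : i.Coprime (orderOf g) := by
      rw [hk]; exact ((hq.coprime_iff_not_dvd.2 hi).symm.pow_right _)
    have hdvd : orderOf g ∣ Nat.card G := orderOf_dvd_natCard g
    haveI : NeZero (Nat.card G) := ⟨Nat.card_pos.ne'⟩
    obtain ⟨u, hu⟩ := ZMod.unitsMap_surjective hdvd (ZMod.unitOfCoprime i hco)
    have hmo : (u : ZMod (Nat.card G)).val ≡ i [MOD orderOf g] := by
      rw [← ZMod.natCast_eq_natCast_iff]
      have h1 := congrArg (fun w : (ZMod (orderOf g))ˣ => (w : ZMod (orderOf g))) hu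
      simp only [ZMod.unitsMap_val, ZMod.coe_unitOfCoprime] at h1
      rw [← h1, ← ZMod.cast_eq_val]
    rw [← pow_eq_pow_iff_modEq.2 hmo, hinv _ (ZMod.val_coe_unit_coprime u), hψ]
    exact hv
  have hS : ∑ i ∈ range (q ^ (k + 1)), ψ (g ^ i) = ((q ^ (k + 1) : ℕ) : ℂ) * m := by
    rw [← hk, ← sum_zpowers g ψ, hinvdim, Nat.card_zpowers]
  have hS' : ∑ j ∈ range (q ^ k), ψ (g' ^ j) = ((q ^ k : ℕ) : ℂ) * m' := by
    rw [← ho', ← sum_zpowers g' ψ, hinvdim, Nat.card_zpowers]
  have hfil : (range (q ^ (k + 1))).filter (q ∣ ·) = (range (q ^ k)).image (q * ·) := by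
    ext i
    simp only [mem_filter, mem_range, mem_image]
    constructor
    · rintro ⟨hi, j, rfl⟩
      exact ⟨j, Nat.lt_of_mul_lt_mul_left (by rwa [pow_succ'] at hi), rfl⟩
    · rintro ⟨j, hj, rfl⟩
      exact ⟨by rw [pow_succ']; exact Nat.mul_lt_mul_of_pos_left hj hq.pos, Dvd.intro j rfl⟩
  have hle' : q ^ k ≤ q ^ (k + 1) := Nat.pow_le_pow_right hq.pos (by omega)
  have hcard : ((range (q ^ (k + 1))).filter fun i => ¬ q ∣ i).card = q ^ (k + 1) - q ^ k := by
    have h1 := Finset.card_filter_add_card_filter_not (s := range (q ^ (k + 1))) (q ∣ ·)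
    rw [hfil, card_image_of_injective _ (mul_right_injective₀ hq.ne_zero), card_range, card_range] at h1
    omega
  rw [← Finset.sum_filter_add_sum_filter_not (range (q ^ (k + 1))) (q ∣ ·), hfil,
    Finset.sum_image fun a _ b _ h => mul_left_cancel₀ hq.ne_zero h,
    Finset.sum_congr (s₁ := range (q ^ k)) rfl fun j _ => by rw [pow_mul], hS',
    Finset.sum_congr rfl fun i hi => hgen i (mem_filter.1 hi).2, sum_const, hcard, nsmul_eq_mul,
    Nat.cast_sub hle'] at hS
  have hS2 : ((q ^ k : ℕ) : ℤ) * m' + (((q ^ (k + 1) : ℕ) : ℤ) - ((q ^ k : ℕ) : ℤ)) * v =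
      ((q ^ (k + 1) : ℕ) : ℤ) * m := by exact_mod_cast hS
  have hlt : ((q ^ k : ℕ) : ℤ) < ((q ^ (k + 1) : ℕ) : ℤ) :=
    Int.ofNat_lt.2 (Nat.pow_lt_pow_right hq.one_lt (by omega))
  have hmm : (m : ℤ) ≤ m' := Int.ofNat_le.2 hle
  have hm5 : (m : ℤ) ≤ 5 := by omega
  nlinarith [mul_le_mul_of_nonneg_left hmm (Int.natCast_nonneg (q ^ k))]

/-- A rational value is congruent to the degree. -/
theorem value_modEq {f : G → ℂ} (hf : IsCharacter G f) {q : ℕ} [Fact q.Prime] {g : G}
    (hg : ∃ k, g ^ q ^ k = 1) {a b : ℤ} (ha : f g = a) (hb : f 1 = b) : b ≡ a [ZMOD q] := by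
  obtain ⟨k, hk⟩ := hg
  exact genChar_frob_modEq (isGenChar_of_char hf) g k ha (by rw [hk, hb])

end CfsgLib.LinearSmall.FiveThree
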