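import Cfsg.Agent.Lib.LinearSmall.FiveThree.Tools
import Cfsg.Agent.Lib.LinearSmall.Nineteen.Others
import Cfsg.Agent.Lib.SmallRep.Complex

/-!
# The family over the trivial central character
-/

namespace CfsgLib.LinearSmall.FiveThree

open Cfsg CfsgLib.Blocks CfsgLib.Blocks.DefectOne CfsgLib.CharTheory CfsgLib.CharTheory.SmallDegree
open CfsgLib.SmallSylow CfsgLib.FeitSmall CfsgLib.LinearSmall.Nineteen Finset
open scoped ComplexConjugate

set_option linter.unusedVariables false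
set_option linter.style.haveILetI false
set_option linter.unusedSectionVars false

universe u

theorem fact_five : Fact (Nat.Prime 5) := ⟨by norm_num⟩

attribute [local instance] fact_five

variable {G : Type u} [Group G] [Fintype G] {P : Sylow 5 G} {x : G} {ζ : IrrCharacter G} {a : ZMod 5}

/-- The square of the absolute value. -/
noncomputable def sq (ζ : IrrCharacter G) : G → ℂ := fun g => (ζ : G → ℂ) g * conj ((ζ : G → ℂ) g)

/-- A faithful character of degree three and a nonnormal Sylow subgroup of order five. -/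
structure Conf (D : Data P x 2 2) (ζ : IrrCharacter G) (a : ZMod 5) : Prop where
  compl : Compl (P : Subgroup G) (Subgroup.center G)
  nnorm : ¬ (P : Subgroup G).Normal
  faith : ∀ g : G, (ζ : G → ℂ) g = (ζ : G → ℂ) 1 → g = 1
  deg : charDegree (ζ : G → ℂ) = 3
  ne : a ≠ 0
  shape : Shape x 2 (ζ : G → ℂ) a 1 (-1)

theorem exists_conf (P : Sylow 5 G) (hP : Nat.card P = 5) (hnn : ¬ (P : Subgroup G).Normal)
    (ζ : IrrCharacter G) (hfaith : ∀ g : G, (ζ : G → ℂ) g = (ζ : G → ℂ) 1 → g = 1)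
    (hdeg : charDegree (ζ : G → ℂ) = 3) :
    ∃ (x : G) (D : Data P x 2 2) (a : ZMod 5), Conf D ζ a := by
  classical
  obtain ⟨x, e, t, D⟩ := exists_data P hP
  letI : Fintype (P : Subgroup G) := Fintype.ofFinite _
  letI : Fintype (cen (P : Subgroup G)) := Fintype.ofFinite _
  letI : Fintype (Subgroup.center G) := Fintype.ofFinite _
  obtain ⟨M, hM⟩ := exists_isPModular (Fact.out : Nat.Prime 5)
  rcases structure_cases D hM ζ hfaith (by omega) (D.inf_center hnn) with
    ⟨a, ha, hA⟩ | ⟨ht, hH, a, ha, hS⟩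
  · have := (caseA_degree D (by norm_num) ζ hfaith (by omega) hnn ha hA).2
    omega
  · have hde := hS.degree D.A ha
    obtain rfl : e = 2 := by omega
    obtain rfl : t = 2 := by have := D.A.mul; omega
    exact ⟨x, D, a, hH, hnn, hfaith, hdeg, ha, hS⟩

variable {D : Data P x 2 2}

theorem Conf.one_eq (hc : Conf D ζ a) : (ζ : G → ℂ) 1 = 3 := by
  rw [← irr_charDegree_cast, hc.deg, Nat.cast_ofNat]

theorem Conf.sq_one (hc : Conf D ζ a) : sq ζ 1 = 9 := by
  rw [sq, hc.one_eq, map_ofNat]; norm_num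

theorem isCharacter_sq (ζ : IrrCharacter G) : IsCharacter G (sq ζ) :=
  isCharacter_mul (isCharacter_of_irr ζ.2) (isCharacter_conj (isCharacter_of_irr ζ.2))

theorem Conf.mult_sq (hc : Conf D ζ a) (z : ZMod 5) :
    mult x (sq ζ) z = 1 + (cc 5 2 a (-a) z : ℂ) := by
  rw [show sq ζ = fun g => (ζ : G → ℂ) g * (fun g => conj ((ζ : G → ℂ) g)) g from rfl,
    hc.shape.mul D.A hc.ne (neg_ne_zero.2 hc.ne) hc.shape.conj z]
  push_cast
  ring

theorem cc_vals : ∀ a : ZMod 5, a ≠ 0 →
    cc 5 2 a (-a) 0 = 2 ∧ cc 5 2 a (-a) a = 0 ∧ cc 5 2 a (-a) (2 * a) = 1 := by decide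

theorem cc_zero : ∀ c : ZMod 5, c ≠ 0 → cc 5 2 c c 0 = 2 := by decide

/-- A character nontrivial on `x` has its kernel in the centre. -/
theorem Conf.kernel_central (hc : Conf D ζ a) {f : G → ℂ} (hf : IsCharacter G f)
    (hfx : mult x f (0 : ZMod 5) ≠ f 1) {g : G} (hg : f g = f 1) : g ∈ Subgroup.center G := by
  classical
  obtain ⟨d, R, rfl⟩ := hf
  obtain ⟨R0, hR0, -, -⟩ := CfsgLib.FeitSmall.exists_rep ζ hc.faith
  set K : Subgroup G := MonoidHom.ker (MonoidHom.toHomUnits R) with hK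
  have hKmem : ∀ y, y ∈ K ↔ R y = 1 := fun y => by
    rw [hK, MonoidHom.mem_ker, ← Units.val_inj]; rfl
  have hKp : ¬ 5 ∣ Nat.card K := fun hd => by
    obtain ⟨y, hy⟩ := exists_prime_orderOf_dvd_card' 5 hd
    have hyG : orderOf (y : G) = 5 := by rw [Subgroup.orderOf_coe, hy]
    obtain ⟨Q, hQ⟩ := (IsPGroup.of_card (n := 1) (by rw [Nat.card_zpowers, hyG, pow_one]) :
      IsPGroup 5 (Subgroup.zpowers (y : G))).exists_le_sylow
    obtain ⟨b, hb⟩ := MulAction.exists_smul_eq G Q P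
    have h1 : b * (y : G) * b⁻¹ ∈ (P : Subgroup G) := by
      rw [← hb, Sylow.coe_subgroup_smul]
      exact Subgroup.smul_mem_pointwise_smul (y : G) (MulAut.conj b) _ (hQ (Subgroup.mem_zpowers _))
    have h2 : b * (y : G) * b⁻¹ ≠ 1 := fun h0 => by
      rw [conj_eq_one_iff] at h0
      rw [h0, orderOf_one] at hyG
      norm_num at hyG
    have hle : (P : Subgroup G) ≤ K := by
      rw [← (CfsgLib.Blocks.DefectOne.zpowers_eq D.setup D.hP h1 h2).1, Subgroup.zpowers_le]
      exact (MonoidHom.normal_ker _).conj_mem _ y.2 b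
    have hx : R x = 1 := (hKmem x).1 (hle D.mem)
    refine hfx ?_
    rw [mult, Finset.sum_congr rfl fun k _ => show R.character (xp x k) * psi 5 (-((0 : ZMod 5) * k)) =
        R.character 1 by
      rw [zero_mul, neg_zero, AddChar.map_zero_eq_one, mul_one, xp, Representation.character,
        Representation.character, map_pow, hx, one_pow, map_one R],
      sum_const, card_univ, ZMod.card, nsmul_eq_mul, ← mul_assoc,
      inv_mul_cancel₀ (by norm_num : ((5 : ℕ) : ℂ) ≠ 0), one_mul]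
  have hk : g ∈ K := (hKmem g).2 (rep_apply_eq_one_of_char_eq R hg)
  have hcm := CfsgLib.SmallRep.commute_of_small (R := R0) (p := 5) hR0 D.pow (by rw [hc.deg]; norm_num) _ K rfl
    hKp (fun y hy => (MonoidHom.normal_ker _).conj_mem y hy x) g hk
  obtain ⟨q, hq, z, hz, hqz⟩ := hc.compl.prod g (D.setup.free D.mem D.ne (g := g) (by
    rw [← hcm, mul_inv_cancel_right]))
  have hzc : Commute q z := Subgroup.mem_center_iff.1 hz q
  have h1 : (q * z) ^ Nat.card K = 1 := by
    rw [← hqz]; exact congrArg Subtype.val (pow_card_eq_one' (x := (⟨g, hk⟩ : K)))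
  rw [hzc.mul_pow] at h1
  have h2 : q ^ Nat.card K ∈ (P : Subgroup G) ⊓ Subgroup.center G := by
    refine Subgroup.mem_inf.2 ⟨pow_mem hq _, ?_⟩
    rw [eq_inv_of_mul_eq_one_left h1]
    exact inv_mem (pow_mem hz _)
  rw [hc.compl.inf, Subgroup.mem_bot] at h2
  have h3 : q = 1 := by
    rw [← orderOf_eq_one_iff]
    exact Nat.eq_one_of_dvd_coprimes (((Fact.out : Nat.Prime 5).coprime_iff_not_dvd.2 hKp))
      (orderOf_dvd_of_pow_eq_one (pow_card_of_mem D.hP hq)) (orderOf_dvd_of_pow_eq_one h2)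
  rw [hqz, h3, one_mul]; exact hz

theorem Conf.sq_kernel (hc : Conf D ζ a) {g : G} (hg : sq ζ g = 9) : g ∈ Subgroup.center G := by
  refine hc.kernel_central (isCharacter_sq ζ) ?_ (hg.trans hc.sq_one.symm)
  rw [hc.mult_sq, hc.sq_one, (cc_vals a hc.ne).1]
  norm_num

theorem hasCen_sq (ζ : IrrCharacter G) : HasCen (sq ζ) (1 : Subgroup.center G →* ℂ) := by
  obtain ⟨w, hw⟩ := exists_hasCen ζ
  have := hw.mul hw.conj
  rwa [hasCen_conj_mul] at this

/-- The linear characters of a perfect group. -/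
theorem eq_oneC (hG : commutator G = ⊤) {χ : IrrCharacter G} (h : (χ : G → ℂ) 1 = 1) : χ = oneC G := by
  obtain ⟨k, R, -, hRχ⟩ := χ.2
  have hk : k = 1 := by
    apply Nat.cast_injective (R := ℂ)
    rw [Nat.cast_one, ← h, ← hRχ, R.char_one, Module.finrank_fin_fun]
  subst hk
  refine Subtype.ext (funext fun g => ?_)
  show (χ : G → ℂ) g = 1
  obtain ⟨c, hc⟩ : ∃ c : ℂ, R g = c • LinearMap.id := by
    refine ⟨R g (fun _ => 1) 0, LinearMap.ext fun v => ?_⟩
    have hv : v = v 0 • (fun _ => (1 : ℂ)) := by ext i; fin_cases i; simp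
    conv_lhs => rw [hv, map_smul]
    ext i
    fin_cases i
    simp [mul_comm]
  have h1 := det_eq_one_of_perfect hG R g
  rw [hc, LinearMap.det_smul, LinearMap.det_id, mul_one, Module.finrank_fin_fun, pow_one] at h1
  rw [← hRχ, Representation.character, hc, h1, one_smul, LinearMap.trace_id, Module.finrank_fin_fun,
    Nat.cast_one]

variable {F : ZMod 5 → IrrCharacter G} {n : ℕ} {ε : ℤ} {w : Subgroup.center G →* ℂ}

theorem fam_degree (hF : Fam D w F n ε) {c : ZMod 5} (hc : c ≠ 0) :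
    (F c : G → ℂ) 1 = 5 * n + 2 * ε := by
  rw [← sum_mult (x := x) (p := 5) (F c : G → ℂ), Finset.sum_congr rfl fun z _ => hF.vals c hc z,
    Finset.sum_add_distrib, ← Finset.mul_sum, sum_ind D.A hc, sum_const, card_univ, ZMod.card, nsmul_eq_mul]
  push_cast
  ring

theorem fam_ne_oneC (hF : Fam D w F n ε) {c : ZMod 5} (hc : c ≠ 0) : F c ≠ oneC G := by
  intro h
  have h1 := fam_degree hF hc
  rw [h, show (oneC G : G → ℂ) 1 = 1 from rfl] at h1
  have h2 : (1 : ℤ) = 5 * n + 2 * ε := by exact_mod_cast h1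
  rcases hF.sgn with h' | h' <;> omega

theorem value_const (hF : Fam D w F n ε) {χ : IrrCharacter G} (hχ : χ ∈ others F w) {k : ZMod 5} (hk : k ≠ 0) :
    (χ : G → ℂ) (xp x k) = (χ : G → ℂ) x := by
  obtain ⟨σ, M, h0, hm, hx, -⟩ := others_shape hF hχ
  rw [hx, mult_expand (χ : G → ℂ), Finset.sum_congr rfl fun z _ => show mult x (χ : G → ℂ) z * psi 5 (z * k) =
      (M : ℂ) * psi 5 (z * k) + (if z = 0 then (σ : ℂ) else 0) by
    rcases eq_or_ne z 0 with rfl | hz
    · rw [h0, if_pos rfl, zero_mul, AddChar.map_zero_eq_one, mul_one, mul_one]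
    · rw [hm z hz, if_neg hz, add_zero],
    Finset.sum_add_distrib, ← Finset.mul_sum, sum_psi_mul, if_neg hk, mul_zero, zero_add,
    Finset.sum_ite_eq', if_pos (mem_univ _)]

/-- One further character over the trivial central character. -/
theorem exists_other (hc : Conf D ζ a) (hF : Fam D 1 F n ε) :
    ∃ (X : IrrCharacter G) (σ : ℤ), X ∈ others F 1 ∧ X ≠ oneC G ∧ (σ = 1 ∨ σ = -1) ∧ (X : G → ℂ) x = σ ∧
      (∀ χ ∈ others F 1, χ ≠ oneC G → χ ≠ X → (χ : G → ℂ) x = 0) ∧
      ∀ g : G, ¬ 5 ∣ orderOf g → 1 + (σ : ℂ) * (X : G → ℂ) g = (ε : ℂ) * (F 1 : G → ℂ) g := by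
  classical
  letI : Fintype (Subgroup.center G) := Fintype.ofFinite _
  have h1 : oneC G ∈ others F (1 : Subgroup.center G →* ℂ) :=
    mem_others.2 ⟨hasCen_oneC, fun b hb h => fam_ne_oneC hF hb h.symm⟩
  choose σ hσ using fun (χ : IrrCharacter G) (hχ : χ ∈ others F (1 : Subgroup.center G →* ℂ)) =>
    let ⟨s, _, _, _, hs, _⟩ := others_shape hF hχ
    (⟨s, hs⟩ : ∃ s : ℤ, (χ : G → ℂ) x = s)
  let s : IrrCharacter G → ℤ := fun χ => if h : χ ∈ others F (1 : Subgroup.center G →* ℂ) then σ χ h else 0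
  have hs : ∀ χ ∈ others F (1 : Subgroup.center G →* ℂ), (χ : G → ℂ) x = s χ := fun χ hχ => by
    simp only [s, dif_pos hχ]; exact hσ χ hχ
  have hs1 : s (oneC G) = 1 := by
    have h := hs _ h1
    rw [show (oneC G : G → ℂ) x = 1 from rfl] at h
    exact_mod_cast h.symm
  have hsq := others_sq hc.compl hF s hs
  rw [← Finset.add_sum_erase _ _ h1, hs1] at hsq
  obtain ⟨X, hX, hX0⟩ := Finset.exists_ne_zero_of_sum_ne_zero
    (show ∑ χ ∈ (others F (1 : Subgroup.center G →* ℂ)).erase (oneC G), s χ * s χ ≠ 0 by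
      intro h; rw [h] at hsq; norm_num at hsq)
  have hpos : ∀ χ, 0 ≤ s χ * s χ := fun χ => mul_self_nonneg _
  rw [← Finset.add_sum_erase _ _ hX] at hsq
  have hrest0 : 0 ≤ ∑ χ ∈ ((others F (1 : Subgroup.center G →* ℂ)).erase (oneC G)).erase X, s χ * s χ :=
    Finset.sum_nonneg fun χ _ => hpos χ
  have hX1 : 1 ≤ s X * s X := by
    have := hpos X
    omega
  have hXsq : s X * s X = 1 := by push_cast at hsq; omega
  have hrest : ∀ χ ∈ ((others F (1 : Subgroup.center G →* ℂ)).erase (oneC G)).erase X, s χ = 0 := by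
    intro χ hχ
    have h2 : ∑ χ ∈ ((others F (1 : Subgroup.center G →* ℂ)).erase (oneC G)).erase X, s χ * s χ = 0 := by
      push_cast at hsq; omega
    exact mul_self_eq_zero.1 ((Finset.sum_eq_zero_iff_of_nonneg fun χ _ => hpos χ).1 h2 χ hχ)
  refine ⟨X, s X, (mem_erase.1 hX).2, (mem_erase.1 hX).1, mul_self_eq_one_iff.1 hXsq,
    hs X (mem_erase.1 hX).2, fun χ hχ hne hneX => ?_, fun g hg => ?_⟩
  · rw [hs χ hχ, hrest χ (mem_erase.2 ⟨hneX, mem_erase.2 ⟨hne, hχ⟩⟩), Int.cast_zero]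
  · have h := others_reg hc.compl hF s hs hg
    rw [← Finset.add_sum_erase _ _ h1, ← Finset.add_sum_erase _ _ hX,
      Finset.sum_eq_zero (fun χ hχ => by rw [hrest χ hχ, Int.cast_zero, zero_mul]), add_zero, hs1] at h
    rw [← h, Int.cast_one, one_mul]
    rfl

/-- The family and the further character. -/
structure World (D : Data P x 2 2) (ζ : IrrCharacter G) (F : ZMod 5 → IrrCharacter G) (n : ℕ)
    (c : ZMod 5) (X : IrrCharacter G) : Prop where
  fam : Fam D 1 F n (-1)
  ne : c ≠ 0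
  cases : n = 1 ∨ (n = 2 ∧ ∀ g, sq ζ g = 1 + (F c : G → ℂ) g)
  mem : X ∈ others F 1
  ne_one : X ≠ oneC G
  at_x : (X : G → ℂ) x = -1
  rest : ∀ χ ∈ others F 1, χ ≠ oneC G → χ ≠ X → (χ : G → ℂ) x = 0
  rel : ∀ g : G, ¬ 5 ∣ orderOf g → (X : G → ℂ) g = 1 + (F c : G → ℂ) g

theorem Conf.exists_world (hc : Conf D ζ a) (hG : commutator G = ⊤) :
    ∃ F n c X, World D ζ F n c X := by
  classical
  letI : Fintype (P : Subgroup G) := Fintype.ofFinite _
  letI : Fintype (cen (P : Subgroup G)) := Fintype.ofFinite _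
  letI : Fintype (Subgroup.center G) := Fintype.ofFinite _
  obtain ⟨M, hM⟩ := exists_isPModular (Fact.out : Nat.Prime 5)
  obtain ⟨F, n, ε, hF⟩ := exists_fam D hM hc.compl (1 : Subgroup.center G →* ℂ)
  obtain ⟨X, σ, hXm, hX1, hσ, hXx, hrest, hrel⟩ := exists_other hc hF
  have hψ := isCharacter_sq ζ
  choose B hB using fun χ : IrrCharacter G => classInner_char_nat hψ (isCharacter_of_irr χ.2)
  have hB1 : B (oneC G) = 1 := by
    have h : classInner (sq ζ) (oneC G : G → ℂ) = classInner (ζ : G → ℂ) (ζ : G → ℂ) := by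
      simp only [classInner, sq, oneC, map_one, mul_one]
    rw [classInner_irr_self ζ.2, hB] at h
    exact_mod_cast h
  have h2a : 2 * a ≠ 0 := mul_ne_zero (by decide) hc.ne
  have hcoef : (1 : ℤ) = ε * ((B (F (2 * a)) : ℤ) - B (F a)) := by
    have h := hF.coef (isClassFunction_char hψ) (hasCen_sq ζ) h2a hc.ne
    rw [hc.mult_sq, hc.mult_sq, (cc_vals a hc.ne).2.1, (cc_vals a hc.ne).2.2, hB, hB] at h
    have h' : ((1 : ℤ) : ℂ) = ((ε * ((B (F (2 * a)) : ℤ) - B (F a)) : ℤ) : ℂ) := by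
      push_cast; rw [← h]; norm_num
    exact_mod_cast h'
  obtain ⟨c, hc0, hBc⟩ : ∃ c, c ≠ 0 ∧ 1 ≤ B (F c) := by
    rcases hF.sgn with h | h <;> rw [h] at hcoef
    · exact ⟨2 * a, h2a, by omega⟩
    · exact ⟨a, hc.ne, by omega⟩
  have hdeg : ((9 : ℕ) : ℂ) = ((∑ χ, B χ * charDegree (χ : G → ℂ) : ℕ) : ℂ) := by
    rw [Nat.cast_ofNat, ← hc.sq_one, congrFun (eq_sum_irr (isClassFunction_char hψ)) 1, Nat.cast_sum,
      Finset.sum_apply]
    refine Finset.sum_congr rfl fun χ _ => ?_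
    rw [Pi.smul_apply, smul_eq_mul, hB, Nat.cast_mul, irr_charDegree_cast]
  have hdeg' : 9 = ∑ χ, B χ * charDegree (χ : G → ℂ) := by exact_mod_cast hdeg
  rw [← Finset.add_sum_erase _ _ (mem_univ (oneC G)), hB1,
    ← Finset.add_sum_erase _ _ (mem_erase.2 ⟨fam_ne_oneC hF hc0, mem_univ (F c)⟩)] at hdeg'
  have hd1 : charDegree (oneC G : G → ℂ) = 1 := by
    apply Nat.cast_injective (R := ℂ); rw [irr_charDegree_cast, Nat.cast_one]; rfl
  have hdc : (charDegree (F c : G → ℂ) : ℤ) = 5 * n + 2 * ε := by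
    have h := fam_degree hF hc0
    rw [← irr_charDegree_cast] at h
    exact_mod_cast h
  set dc := charDegree (F c : G → ℂ)
  set R := ∑ χ ∈ (univ.erase (oneC G)).erase (F c), B χ * charDegree (χ : G → ℂ) with hR
  have hle : dc ≤ B (F c) * dc := Nat.le_mul_of_pos_left _ hBc
  rw [hd1] at hdeg'
  have hF1 : ∀ g, ¬ 5 ∣ orderOf g → (F 1 : G → ℂ) g = (F c : G → ℂ) g := fun g hg =>
    hF.agree 1 c one_ne_zero hc0 g hg
  have hXd : 1 + σ * (charDegree (X : G → ℂ) : ℤ) = ε * (5 * n + 2 * ε) := by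
    have h := hrel 1 (by rw [orderOf_one]; norm_num)
    rw [fam_degree hF one_ne_zero, ← irr_charDegree_cast] at h
    exact_mod_cast h
  have hXpos : 1 ≤ charDegree (X : G → ℂ) := Nat.one_le_iff_ne_zero.2 fun h0 =>
    irr_one_ne_zero X (by rw [← irr_charDegree_cast, h0, Nat.cast_zero])
  have hlin : ∀ χ : IrrCharacter G, charDegree (χ : G → ℂ) = 1 → χ = oneC G := fun χ h =>
    eq_oneC hG (by rw [← irr_charDegree_cast, h, Nat.cast_one])
  rcases hF.sgn with rfl | rfl
  · exfalso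
    rcases (show n = 0 ∨ n = 1 by omega) with rfl | rfl
    · refine hX1 (hlin X ?_)
      rcases hσ with rfl | rfl <;> omega
    · have hBc1 : B (F c) = 1 := by
        by_contra hne
        have h2 : 2 * dc ≤ B (F c) * dc := Nat.mul_le_mul_right _ (by omega)
        omega
      rw [hBc1, one_mul] at hdeg'
      have hR1 : R = 1 := by omega
      obtain ⟨χ, hχ, hχ0⟩ := Finset.exists_ne_zero_of_sum_ne_zero
        (show ∑ χ ∈ (univ.erase (oneC G)).erase (F c), B χ * charDegree (χ : G → ℂ) ≠ 0 by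
          rw [← hR, hR1]; norm_num)
      have h3 := Finset.single_le_sum (f := fun χ => B χ * charDegree (χ : G → ℂ)) (fun i _ => Nat.zero_le _) hχ
      have h4 : B χ * charDegree (χ : G → ℂ) = 1 := by
        have h5 : B χ * charDegree (χ : G → ℂ) ≤ R := h3
        omega
      exact (mem_erase.1 (mem_erase.1 hχ).2).1 (hlin χ (mul_eq_one.1 h4).2)
  · obtain rfl : σ = -1 := by rcases hσ with h | h <;> subst h <;> [omega; rfl]
    refine ⟨F, n, c, X, hF, hc0, ?_, hXm, hX1, by rw [hXx]; norm_num, hrest, fun g hg => ?_⟩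
    · rcases (show n = 1 ∨ n = 2 by omega) with rfl | rfl
      · exact Or.inl rfl
      · refine Or.inr ⟨rfl, fun g => ?_⟩
        have hBc1 : B (F c) = 1 := by
          by_contra hne
          have h2 : 2 * dc ≤ B (F c) * dc := Nat.mul_le_mul_right _ (by omega)
          omega
        rw [hBc1, one_mul] at hdeg'
        have hR0 : R = 0 := by omega
        rw [congrFun (eq_sum_irr (isClassFunction_char hψ)) g, Finset.sum_apply,
          ← Finset.add_sum_erase _ _ (mem_univ (oneC G)),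
          ← Finset.add_sum_erase _ _ (mem_erase.2 ⟨fam_ne_oneC hF hc0, mem_univ (F c)⟩),
          Finset.sum_eq_zero fun χ hχ => by
            have h0 := (Finset.sum_eq_zero_iff.1 hR0) χ hχ
            rcases Nat.mul_eq_zero.1 h0 with h0 | h0
            · rw [Pi.smul_apply, hB, h0, Nat.cast_zero, zero_smul]
            · exact absurd (by rw [← irr_charDegree_cast, h0, Nat.cast_zero]) (irr_one_ne_zero χ)]
        simp only [Pi.smul_apply, hB, hB1, hBc1, Nat.cast_one, one_smul, add_zero]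
        rfl
    · have h := hrel g hg
      rw [hF1 g hg] at h
      push_cast at h
      linear_combination -h

theorem regular_pow {g : G} (hg : ¬ 5 ∣ orderOf g) (m : ℕ) : ¬ 5 ∣ orderOf (g ^ m) := fun h =>
  hg (h.trans (orderOf_pow_dvd m))

/-- The values are invariant on regular elements. -/
theorem World.pinv {c : ZMod 5} {X : IrrCharacter G} (hw : World D ζ F n c X) {g : G}
    (hg : ¬ 5 ∣ orderOf g) : PInv (F c : G → ℂ) g := by
  intro m hm
  classical
  set X' := powIrr hm X with hX'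
  have hval : ∀ y, (X' : G → ℂ) y = (X : G → ℂ) (y ^ m) := fun y => rfl
  have hX'1 : (X' : G → ℂ) 1 = 1 + (F c : G → ℂ) 1 := by
    rw [hval, one_pow, hw.rel 1 (by rw [orderOf_one]; norm_num)]
  have hmem : X' ∈ others F (1 : Subgroup.center G →* ℂ) := by
    refine mem_others.2 ⟨fun y z => ?_, fun b hb h => ?_⟩
    · rw [hval, hval, (show Commute y (z : G) from Subgroup.mem_center_iff.1 z.2 y).mul_pow,
        ← SubmonoidClass.coe_pow, (mem_others.1 hw.mem).1 (y ^ m) (z ^ m), MonoidHom.one_apply,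
        MonoidHom.one_apply]
    · rw [h, fam_degree hw.fam hb, fam_degree hw.fam hw.ne] at hX'1
      exact one_ne_zero (left_eq_add.1 (hX'1.trans (add_comm _ _)))
  have hm5 : (m : ZMod 5) ≠ 0 := by
    rw [Ne, ZMod.natCast_eq_zero_iff]
    intro h0
    have := Nat.eq_one_of_dvd_coprimes hm h0 (D.order ▸ orderOf_dvd_natCard x)
    omega
  have hx' : (X' : G → ℂ) x = -1 := by
    rw [hval, ← xp_natCast D.pow, value_const hw.fam hw.mem hm5, hw.at_x]
  have heq : X' = X := by
    by_contra hne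
    have h0 := hw.rest X' hmem (fun h => ?_) hne
    · rw [hx'] at h0; norm_num at h0
    · rw [h, show (oneC G : G → ℂ) x = 1 from rfl] at hx'; norm_num at hx'
  have h1 : (X : G → ℂ) (g ^ m) = (X : G → ℂ) g := by rw [← hval g, heq]
  rw [hw.rel g hg, hw.rel _ (regular_pow hg m)] at h1
  exact add_left_cancel h1

end CfsgLib.LinearSmall.FiveThree
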